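import Groth.Agent.Lib.Hensel.FormalFibres
import Groth.Agent.Lib.Excellent.GeomFibres
import Groth.Agent.S0567
import Groth.Agent.S2647
import Groth.Agent.S2648
import Groth.Agent.S2657

/-!
# Geometrically reduced formal fibres and the Nagata property along henselization
-/

set_option autoImplicit false
set_option backward.isDefEq.respectTransparency false

universe u

open TensorProduct IsLocalRing GrothLib.Hensel

namespace Groth.Agent.HensNagata4

theorem exists_mul_eq_self {C W : Type*} [CommRing C] [CommRing W] (hC : AbsFlat C) (ι : C →+* W)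
    (q : Ideal C) {x : W} (hx : x ∈ q.map ι) : ∃ c ∈ q, ι c * x = x := by
  rw [Ideal.map] at hx
  induction hx using Submodule.span_induction with
  | mem y hy =>
    obtain ⟨a, ha, rfl⟩ := hy
    obtain ⟨a', ha'⟩ := hC a
    refine ⟨a * a', q.mul_mem_right _ ha, ?_⟩
    rw [← map_mul]
    exact congrArg ι (by linear_combination ha')
  | zero => exact ⟨0, q.zero_mem, by simp⟩
  | add y z _ _ hy hz =>
    obtain ⟨c, hc, h1⟩ := hy
    obtain ⟨d, hd, h2⟩ := hz
    refine ⟨c + d - c * d, q.sub_mem (q.add_mem hc hd) (q.mul_mem_right _ hc), ?_⟩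
    rw [map_sub, map_add, map_mul]
    linear_combination (1 - ι d) * h1 + (1 - ι c) * h2
  | smul r y _ hy =>
    obtain ⟨c, hc, h1⟩ := hy
    exact ⟨c, hc, by rw [smul_eq_mul]; linear_combination r * h1⟩

theorem isReduced_quotient {C W : Type*} [CommRing C] [CommRing W] [IsReduced W] (hC : AbsFlat C)
    (ι : C →+* W) (q : Ideal C) : IsReduced (W ⧸ q.map ι) := by
  refine ⟨fun z hz => ?_⟩
  obtain ⟨x, rfl⟩ := Ideal.Quotient.mk_surjective z
  obtain ⟨n, hn⟩ := hz
  rw [← map_pow, Ideal.Quotient.eq_zero_iff_mem] at hn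
  obtain ⟨c, hc, h⟩ := exists_mul_eq_self hC ι q hn
  have h0 : ((1 - ι c) * x) ^ (n + 1) = 0 := by
    rw [mul_pow, pow_succ, pow_succ]
    linear_combination -((1 - ι c) ^ n * x) * h
  have h1 : (1 - ι c) * x = 0 := IsNilpotent.eq_zero ⟨n + 1, h0⟩
  rw [Ideal.Quotient.eq_zero_iff_mem, show x = ι c * x by linear_combination h1]
  exact Ideal.mul_mem_right _ _ (Ideal.mem_map_of_mem ι hc)

variable {S : Type u} [CommRing S]

/-- Reducedness of a base change to an absolutely flat algebra is tested at its residue fields. -/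
theorem isReduced_absFlat_tensor {C T : Type u} [CommRing C] [CommRing T] [Algebra S C] [Algebra S T]
    (hC : AbsFlat C) (h : ∀ q : Ideal C, q.IsMaximal → IsReduced ((C ⧸ q) ⊗[S] T)) :
    IsReduced (C ⊗[S] T) := by
  refine ⟨fun x hx => ?_⟩
  let ι : C →ₐ[S] C ⊗[S] T := Algebra.TensorProduct.includeLeft
  let a : Ideal C :=
    { carrier := {c | ι c * x = 0}
      add_mem' := fun {u v} hu hv => by simp only [Set.mem_setOf_eq, map_add, add_mul] at *; rw [hu, hv, add_zero]
      zero_mem' := by simp
      smul_mem' := fun r u hu => by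
        simp only [Set.mem_setOf_eq, smul_eq_mul, map_mul, mul_assoc] at *; rw [hu, mul_zero] }
  by_contra hne
  have ha : a ≠ ⊤ := fun h' => hne (by
    have h1 : ι (1 : C) * x = 0 := (h' ▸ Submodule.mem_top : (1 : C) ∈ a)
    rwa [map_one, one_mul] at h1)
  obtain ⟨m, hm, hle⟩ := Ideal.exists_le_maximal a ha
  haveI := h m hm
  have hker := Algebra.TensorProduct.rTensor_ker (R := S) (C := T) (Ideal.Quotient.mkₐ S m)
    Ideal.Quotient.mk_surjective
  have hx0 : Algebra.TensorProduct.map (Ideal.Quotient.mkₐ S m) (AlgHom.id S T) x = 0 :=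
    IsNilpotent.eq_zero (hx.map _)
  have hx1 : x ∈ RingHom.ker (Algebra.TensorProduct.map (Ideal.Quotient.mkₐ S m) (AlgHom.id S T)) := hx0
  rw [hker] at hx1
  have hk : RingHom.ker (Ideal.Quotient.mkₐ S m) = m := Ideal.Quotient.mkₐ_ker S m
  rw [hk] at hx1
  obtain ⟨c, hc, hcx⟩ := exists_mul_eq_self hC
    (Algebra.TensorProduct.includeLeftRingHom (R := S) (A := C) (B := T)) m hx1
  have h1 : (1 : C) - c ∈ a := by
    show ι (1 - c) * x = 0
    rw [map_sub, map_one, sub_mul, one_mul, show ι c * x = x from hcx, sub_self]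
  exact hm.ne_top ((Ideal.eq_top_iff_one m).2 (by simpa using m.add_mem (hle h1) hc))

variable {R : Type u} [CommRing R] [Algebra R S]

/-- Fields over `R` versus fields over an ind-étale `R`-algebra `S`. -/
theorem forall_isReduced_tensor_iff (hS : EtaleStages R S) (T : Type u) [CommRing T] [Algebra R T]
    [Algebra S T] [IsScalarTower R S T] :
    (∀ (F : Type u) [Field F] [Algebra R F], IsReduced (F ⊗[R] T)) ↔
      ∀ (F : Type u) [Field F] [Algebra S F], IsReduced (F ⊗[S] T) := by
  have e : ∀ (F : Type u) [Field F] [Algebra R F], Nonempty ((S ⊗[R] F) ⊗[S] T ≃+* F ⊗[R] T) :=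
    fun F _ _ => ⟨(Algebra.TensorProduct.comm S (S ⊗[R] F) T).toRingEquiv.trans
      ((Algebra.TensorProduct.cancelBaseChange R S T T F).toRingEquiv.trans
        (Algebra.TensorProduct.comm R T F).toRingEquiv)⟩
  constructor
  · intro h F _ _
    letI : Algebra R F := ((algebraMap S F).comp (algebraMap R S)).toAlgebra
    haveI : IsScalarTower R S F := IsScalarTower.of_algebraMap_eq fun _ => rfl
    haveI := h F
    haveI : IsReduced ((S ⊗[R] F) ⊗[S] T) := GrothLib.Excellent.isReduced_congr (e F).some.symm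
    let μ : S ⊗[R] F →ₐ[S] F :=
      Algebra.TensorProduct.lift (Algebra.ofId S F) (AlgHom.id R F) fun _ _ => Commute.all _ _
    have hμ : Function.Surjective μ := fun f => ⟨1 ⊗ₜ f, by simp [μ]⟩
    let π := Algebra.TensorProduct.map μ (AlgHom.id S T)
    have hπ : Function.Surjective π := fun z => by
      induction z with
      | zero => exact ⟨0, map_zero _⟩
      | tmul f t => obtain ⟨w, rfl⟩ := hμ f; exact ⟨w ⊗ₜ t, rfl⟩
      | add a b ha hb => obtain ⟨u, rfl⟩ := ha; obtain ⟨v, rfl⟩ := hb; exact ⟨u + v, map_add _ _ _⟩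
    have hker : RingHom.ker π =
        (RingHom.ker μ).map (Algebra.TensorProduct.includeLeftRingHom (R := S) (A := S ⊗[R] F) (B := T)) :=
      Algebra.TensorProduct.rTensor_ker μ hμ
    haveI : IsReduced (((S ⊗[R] F) ⊗[S] T) ⧸ RingHom.ker π.toRingHom) := by
      rw [show RingHom.ker π.toRingHom = _ from hker]
      exact isReduced_quotient (hS.absFlat_tensor (absFlat_of_field F)) _ _
    exact isReduced_of_injective (RingHom.quotientKerEquivOfSurjective (f := π.toRingHom) hπ).symm.toRingHom
      (RingEquiv.injective _)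
  · intro h F _ _
    haveI : IsReduced ((S ⊗[R] F) ⊗[S] T) :=
      isReduced_absFlat_tensor (hS.absFlat_tensor (absFlat_of_field F)) fun q hq =>
        letI := Ideal.Quotient.field q
        h ((S ⊗[R] F) ⧸ q)
    exact GrothLib.Excellent.isReduced_congr (e F).some

/-- A Noetherian local ring is universally Japanese iff its formal fibres are geometrically reduced. -/
theorem isUniversallyJapanese_iff (A : Type u) [CommRing A] [IsLocalRing A] [IsNoetherianRing A] :
    CAlg.IsUniversallyJapanese A ↔ EGA4.HasGeomReducedFormalFibres A := by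
  refine ⟨fun h => ?_, fun h => ((Groth.Agent.S0567.result A).1 (Groth.Agent.S2657.result A h)).2⟩
  have hN := (Groth.Agent.S0567.result A).2 ⟨inferInstance, h⟩
  exact (Groth.Agent.S2648.result A).1 fun C _ _ hfin hred =>
    Groth.Agent.S2647.result A (fun p _ => hN.2 p) C

theorem hasGeomReducedFormalFibres_iff_fields (A : Type u) [CommRing A] [IsLocalRing A] :
    EGA4.HasGeomReducedFormalFibres A ↔
      ∀ (F : Type u) [Field F] [Algebra A F], IsReduced (F ⊗[A] EGA4.Cpl A) :=
  ⟨fun h F _ _ => GrothLib.Excellent.isReduced_field_tensor h F,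
    fun h p _ => GrothLib.Excellent.geomReduced_fibres_of_fields h p⟩

theorem henselization_isUniversallyJapanese_iff (R S : Type u) [CommRing R] [IsLocalRing R]
    [IsNoetherianRing R] [CommRing S] [IsLocalRing S] [Algebra R S] [IsLocalHom (algebraMap R S)]
    [_root_.Hensel.IsHenselization R S] :
    CAlg.IsUniversallyJapanese S ↔ CAlg.IsUniversallyJapanese R := by
  haveI : IsNoetherianRing S := (IsHenselization.isNoetherianRing_iff (R := R) (S := S)).mp inferInstance
  obtain ⟨e⟩ := IsHenselization.nonempty_completion_algEquiv R S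
  rw [isUniversallyJapanese_iff, isUniversallyJapanese_iff, hasGeomReducedFormalFibres_iff_fields,
    hasGeomReducedFormalFibres_iff_fields,
    ← forall_isReduced_tensor_iff (IsHenselization.etaleStages (A := R) (S := S)) (EGA4.Cpl S)]
  refine ⟨fun h F _ _ => ?_, fun h F _ _ => ?_⟩
  · haveI := h F
    exact GrothLib.Excellent.isReduced_congr
      (Algebra.TensorProduct.congr (AlgEquiv.refl : F ≃ₐ[R] F) e.symm).toRingEquiv
  · haveI := h F
    exact GrothLib.Excellent.isReduced_congr
      (Algebra.TensorProduct.congr (AlgEquiv.refl : F ≃ₐ[R] F) e).toRingEquiv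

end Groth.Agent.HensNagata4
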